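import Groth.Agent.Hensel.IntegralStrict
import Mathlib

/-!
# Bounded constants in a field with a discrete valuation over a henselian discrete valuation ring
-/

set_option autoImplicit false
universe u
open IntermediateField IsLocalRing

namespace Groth.Agent.H1MilFib

/-- Over a discrete valuation ring with algebraically closed residue field, a finite local extension
which is a discrete valuation ring has rank at most the valuation of the uniformiser. -/
theorem finrank_le_of_residue {V C : Type u} [CommRing V] [IsDomain V] [IsDiscreteValuationRing V]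
    [IsAlgClosed (ResidueField V)] [CommRing C] [IsDomain C] [IsLocalRing C] [Algebra V C]
    [IsLocalHom (algebraMap V C)] [Module.Finite V C]
    (ϖ : C) (hϖ : maximalIdeal C = Ideal.span {ϖ}) (e : ℕ)
    (hle : ϖ ^ e ∈ (maximalIdeal V).map (algebraMap V C)) :
    Module.finrank V C ≤ e := by
  let W : Submodule V C := Submodule.span V (Set.range fun i : Fin e => ϖ ^ (i : ℕ))
  have hsurj : ∀ r : C, ∃ (c : V) (r' : C), r = algebraMap V C c + ϖ * r' := by
    intro r
    obtain ⟨c, hc⟩ := (IsAlgClosed.algebraMap_bijective_of_isIntegral (k := ResidueField V)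
      (K := ResidueField C)).2 (residue C r)
    obtain ⟨c, rfl⟩ := residue_surjective c
    rw [ResidueField.algebraMap_residue] at hc
    have : r - algebraMap V C c ∈ maximalIdeal C := by
      rw [← residue_eq_zero_iff, map_sub, sub_eq_zero]
      exact hc.symm
    rw [hϖ, Ideal.mem_span_singleton'] at this
    obtain ⟨r', hr'⟩ := this
    exact ⟨c, r', by rw [mul_comm ϖ, hr']; abel⟩
  have key : ∀ j ≤ e, ∀ x : C, ∃ w ∈ W, ∃ r : C, x = w + ϖ ^ j * r := by
    intro j
    induction j with
    | zero => exact fun _ x => ⟨0, W.zero_mem, x, by simp⟩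
    | succ j ih =>
      intro hj x
      obtain ⟨w, hw, r, rfl⟩ := ih (by omega) x
      obtain ⟨c, r', rfl⟩ := hsurj r
      refine ⟨w + c • ϖ ^ j, W.add_mem hw (W.smul_mem c (Submodule.subset_span ⟨⟨j, hj⟩, rfl⟩)), r', ?_⟩
      rw [Algebra.smul_def, pow_succ]
      ring
  have htop : (⊤ : Submodule V C) ≤ W := by
    refine Submodule.le_of_le_smul_of_le_jacobson_bot (I := maximalIdeal V) Module.Finite.fg_top
      (maximalIdeal_le_jacobson _) fun x _ => ?_
    obtain ⟨w, hw, r, rfl⟩ := key e le_rfl x
    refine Submodule.add_mem_sup hw ?_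
    rw [Ideal.smul_top_eq_map]
    exact Ideal.mul_mem_right _ _ hle
  calc Module.finrank V C = Module.finrank V (⊤ : Submodule V C) := (finrank_top V C).symm
    _ = Module.finrank V W := by rw [eq_top_iff.mpr htop]
    _ ≤ Fintype.card (Fin e) := finrank_range_le_card _
    _ = e := Fintype.card_fin e

/-- A finite extension of `Frac V` inside a field with a discrete valuation over `V` has degree at
most the valuation of the uniformiser of `V`. -/
theorem finrank_le_of_dvr {V K O Φ : Type u} [CommRing V] [IsDomain V] [IsDiscreteValuationRing V]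
    [HenselianLocalRing V] [CharZero V] [IsAlgClosed (ResidueField V)]
    [Field K] [Algebra V K] [IsFractionRing V K]
    [CommRing O] [IsDomain O] [IsDiscreteValuationRing O] [Algebra V O] [IsLocalHom (algebraMap V O)]
    [Field Φ] [Algebra O Φ] [IsFractionRing O Φ] [Algebra K Φ] [Algebra V Φ] [IsScalarTower V K Φ]
    [IsScalarTower V O Φ]
    (π : V) (hπ : maximalIdeal V = Ideal.span {π}) (N : ℕ)
    (hN : ¬ algebraMap V O π ∈ maximalIdeal O ^ N)
    (F : IntermediateField K Φ) [FiniteDimensional K F] :
    Module.finrank K F ≤ N := by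
  haveI : CharZero K := charZero_of_injective_algebraMap (IsFractionRing.injective V K)
  let C := integralClosure V F
  haveI : IsScalarTower V K F := IsScalarTower.of_algebraMap_eq fun v => Subtype.ext (IsScalarTower.algebraMap_apply V K Φ v)
  haveI : IsIntegralClosure C V F := inferInstance
  haveI : FaithfulSMul V F := (faithfulSMul_iff_algebraMap_injective V F).mpr (by
    rw [IsScalarTower.algebraMap_eq V K F]
    exact (algebraMap K F).injective.comp (IsFractionRing.injective V K))
  haveI : Module.Finite V C := IsIntegralClosure.finite V K F C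
  haveI : IsFractionRing C F := IsIntegralClosure.isFractionRing_of_finite_extension V K F C
  haveI : IsDedekindDomain C := IsIntegralClosure.isDedekindDomain V K F C
  have hinj : Function.Injective (algebraMap V C) := by
    intro a b h
    have := congrArg (algebraMap C F) h
    rw [← IsScalarTower.algebraMap_apply, ← IsScalarTower.algebraMap_apply,
      IsScalarTower.algebraMap_apply V K F, IsScalarTower.algebraMap_apply V K F] at this
    exact IsFractionRing.injective V K ((algebraMap K F).injective this)
  haveI : FaithfulSMul V C := (faithfulSMul_iff_algebraMap_injective V C).mpr hinj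
  haveI : IsLocalRing C := Hensel.isLocalRing_of_isIntegral_domain V C
  haveI : IsLocalHom (algebraMap V C) :=
    ((algebraMap_isIntegral_iff (R := V) (A := C)).mpr inferInstance).isLocalHom hinj
  have hnf : ¬ IsField C := fun h =>
    IsDiscreteValuationRing.not_isField V ((Algebra.IsIntegral.isField_iff_isField hinj).mpr h)
  haveI : IsDiscreteValuationRing C :=
    ((IsDiscreteValuationRing.TFAE C hnf).out 0 2).mpr (inferInstance : IsDedekindDomain C)
  obtain ⟨ϖ, hϖ⟩ := IsDiscreteValuationRing.exists_irreducible C
  have hπ0 : algebraMap V C π ≠ 0 := by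
    intro h
    have : π = 0 := hinj (h.trans (map_zero _).symm)
    exact IsDiscreteValuationRing.not_a_field V (by rw [hπ, this]; simp)
  obtain ⟨e, u, he⟩ := IsDiscreteValuationRing.eq_unit_mul_pow_irreducible hπ0 hϖ
  have hle : ϖ ^ e ∈ (maximalIdeal V).map (algebraMap V C) := by
    rw [hπ, Ideal.map_span, Set.image_singleton, he, Ideal.mem_span_singleton']
    exact ⟨↑u⁻¹, by rw [← mul_assoc, Units.inv_mul, one_mul]⟩
  have h1 := finrank_le_of_residue ϖ hϖ.maximalIdeal_eq e hle
  rw [IsIntegralClosure.rank V K F C] at h1
  refine h1.trans (Nat.le_of_not_lt fun hlt => hN ?_)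
  -- the map `C → O`
  have hmem : ∀ c : C, ∃ o : O, algebraMap O Φ o = ((c : F) : Φ) := fun c => by
    refine IsIntegrallyClosed.isIntegral_iff.mp ?_
    exact ((c.2 : IsIntegral V (c : F)).map (F.val.restrictScalars V)).tower_top
  choose g hg using hmem
  have hO := IsFractionRing.injective O Φ
  let f : C →+* O :=
    { toFun := g
      map_one' := hO (by simp [hg])
      map_mul' := fun a b => hO (by simp [hg])
      map_zero' := hO (by simp [hg])
      map_add' := fun a b => hO (by simp [hg]) }
  have hf : ∀ v, f (algebraMap V C v) = algebraMap V O v := fun v => hO (by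
    show algebraMap O Φ (g (algebraMap V C v)) = _
    rw [hg, ← IsScalarTower.algebraMap_apply V O Φ]
    exact ((F.val.restrictScalars V).commutes v))
  have hϖm : f ϖ ∈ maximalIdeal O := by
    by_contra hu
    rw [IsLocalRing.mem_maximalIdeal, mem_nonunits_iff, not_not] at hu
    have hp : IsUnit (algebraMap V O π) := by
      rw [← hf, he, map_mul, map_pow]
      exact (u.isUnit.map f).mul (hu.pow e)
    have hπu : IsUnit π := isUnit_of_map_unit (algebraMap V O) π hp
    exact (IsLocalRing.mem_maximalIdeal π).mp (hπ ▸ Ideal.mem_span_singleton_self π) hπu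
  rw [← hf, he, map_mul, map_pow]
  exact Ideal.mul_mem_left _ _ (Ideal.pow_le_pow_right hlt.le (Ideal.pow_mem_pow hϖm e))

/-- A perfect field with bounded degrees of finite subextensions has finite algebraic closure in
the bigger field. -/
theorem finiteDimensional_algebraicClosure_of_bounded {K Φ : Type u} [Field K] [Field Φ] [Algebra K Φ]
    (N : ℕ) (h : ∀ F : IntermediateField K Φ, FiniteDimensional K F → Module.finrank K F ≤ N) :
    FiniteDimensional K (algebraicClosure K Φ) := by
  classical
  let P : ℕ → Prop := fun n => ∃ F : IntermediateField K Φ, FiniteDimensional K F ∧ Module.finrank K F = n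
  have h0 : P 1 := ⟨⊥, inferInstance, IntermediateField.finrank_bot⟩
  obtain ⟨F, hF, hFn⟩ : P (Nat.findGreatest P N) :=
    Nat.findGreatest_spec (m := 1) (h0.elim fun F hF => hF.2 ▸ h F hF.1) h0
  suffices algebraicClosure K Φ ≤ F from
    FiniteDimensional.of_injective (IntermediateField.inclusion this).toLinearMap
      (IntermediateField.inclusion_injective this)
  intro a ha
  haveI : FiniteDimensional K K⟮a⟯ :=
    adjoin.finiteDimensional ((mem_algebraicClosure_iff.mp ha).isIntegral)
  let G := F ⊔ K⟮a⟯
  have hle : Module.finrank K G ≤ Module.finrank K F := by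
    rw [hFn]
    exact Nat.le_findGreatest (h G inferInstance) ⟨G, inferInstance, rfl⟩
  have := IntermediateField.eq_of_le_of_finrank_le (le_sup_left : F ≤ G) hle
  exact this ▸ (le_sup_right : K⟮a⟯ ≤ G) (mem_adjoin_simple_self K a)

end Groth.Agent.H1MilFib
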