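import Mathlib

/-!
# Algebraic elements stay independent over an extension in which the base is algebraically closed
-/

set_option autoImplicit false
universe u v
open IntermediateField

namespace Groth.Agent.H1MilFib

/-- If every element of `E` integral over `M` lies in `M`, the minimal polynomial over `E` of an
element integral over `M` has the degree of its minimal polynomial over `M`. -/
theorem natDegree_minpoly_eq {M Ω : Type u} [Field M] [Field Ω] [Algebra M Ω] (E : IntermediateField M Ω)
    (hE : ∀ x : E, IsIntegral M x → x ∈ (algebraMap M E).range) {α : Ω} (hα : IsIntegral M α) :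
    (minpoly E α).natDegree = (minpoly M α).natDegree := by
  have hαE : IsIntegral E α := hα.tower_top
  set g := minpoly E α with hg
  have hdvd : g ∣ (minpoly M α).map (algebraMap M E) := minpoly.dvd_map_of_isScalarTower M E α
  have hgl : g ∈ Polynomial.lifts (algebraMap M E) := by
    rw [Polynomial.lifts_iff_coeff_lifts]
    intro n
    have h := integralClosure.mem_lifts_of_monic_of_dvd_map E (minpoly.monic hα) (minpoly.monic hαE) hdvd
    rw [Polynomial.lifts_iff_coeff_lifts] at h
    obtain ⟨c, hc⟩ := h n
    exact hc ▸ hE c c.2
  obtain ⟨g₀, hg₀, hg₀d, hg₀m⟩ := Polynomial.lifts_and_degree_eq_and_monic hgl (minpoly.monic hαE)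
  refine le_antisymm (Polynomial.natDegree_le_of_dvd hdvd
    (Polynomial.map_ne_zero (minpoly.ne_zero hα)) |>.trans (Polynomial.natDegree_map_le)) ?_
  have h0 : Polynomial.aeval α g₀ = 0 := by
    rw [← Polynomial.aeval_map_algebraMap E, hg₀, hg, minpoly.aeval]
  calc (minpoly M α).natDegree ≤ g₀.natDegree :=
        Polynomial.natDegree_le_of_dvd (minpoly.dvd M α h0) hg₀m.ne_zero
    _ = g.natDegree := Polynomial.natDegree_eq_natDegree hg₀d

theorem linearIndependent_of_finite {M Ω : Type u} [Field M] [PerfectField M] [Field Ω] [Algebra M Ω]
    (E : IntermediateField M Ω) (hE : ∀ x : E, IsIntegral M x → x ∈ (algebraMap M E).range)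
    {ι : Type v} [Finite ι] {v : ι → Ω} (hv : LinearIndependent M v) (hint : ∀ i, IsIntegral M (v i)) :
    LinearIndependent E v := by
  let F₁ : IntermediateField M Ω := adjoin M (Set.range v)
  haveI : FiniteDimensional M F₁ :=
    finiteDimensional_adjoin fun x hx => by
      obtain ⟨i, rfl⟩ := hx
      exact hint i
  obtain ⟨α, hα⟩ := Field.exists_primitive_element M F₁
  have hαint : IsIntegral M α := IsIntegral.of_finite M α
  let pb : PowerBasis M F₁ :=
    (adjoin.powerBasis hαint).map ((IntermediateField.equivOfEq hα).trans IntermediateField.topEquiv)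
  have hgen : (pb.gen : Ω) = (α : Ω) := by
    simp [pb, IntermediateField.equivOfEq, adjoin.powerBasis]
    rfl
  have hαΩ : IsIntegral M (α : Ω) := hαint.map F₁.val
  have hdim : pb.dim = (minpoly E (α : Ω)).natDegree := by
    rw [natDegree_minpoly_eq E hE hαΩ]
    show (minpoly M α).natDegree = _
    rw [← minpoly.algHom_eq F₁.val F₁.val.injective]
    rfl
  have hdis : F₁.LinearDisjoint E := by
    refine IntermediateField.LinearDisjoint.of_basis_left pb.basis ?_
    have h : (F₁.val ∘ pb.basis : Fin pb.dim → Ω) =
        (fun i : Fin (minpoly E (α : Ω)).natDegree => (α : Ω) ^ (i : ℕ)) ∘ finCongr hdim := by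
      funext i
      simp [hgen]
    rw [h]
    exact (linearIndependent_pow (α : Ω)).comp _ (finCongr hdim).injective
  let w : ι → F₁ := fun i => ⟨v i, subset_adjoin M _ ⟨i, rfl⟩⟩
  have hw : LinearIndependent M w := LinearIndependent.of_comp F₁.val.toLinearMap hv
  exact hdis.linearIndependent_left hw

/-- Elements integral over a perfect field `M` and independent over it remain independent over an
extension in which `M` is algebraically closed. -/
theorem linearIndependent_of_algClosed {M Ω : Type u} [Field M] [PerfectField M] [Field Ω] [Algebra M Ω]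
    (E : IntermediateField M Ω) (hE : ∀ x : E, IsIntegral M x → x ∈ (algebraMap M E).range)
    {ι : Type v} {v : ι → Ω} (hv : LinearIndependent M v) (hint : ∀ i, IsIntegral M (v i)) :
    LinearIndependent E v := by
  rw [linearIndependent_iff_finset_linearIndependent]
  intro s
  exact linearIndependent_of_finite E hE (hv.comp _ Subtype.val_injective) fun i => hint i.1

end Groth.Agent.H1MilFib
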