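import Groth.Agent.H1MilFib.Disjoint
import Groth.Agent.H1MilFib.Bound
import Groth.Agent.S4433
import Mathlib

/-!
# The geometric generic fibre of a Noetherian local algebra over a henselian discrete valuation ring
-/

set_option autoImplicit false
universe u
open IntermediateField IsLocalRing TensorProduct

namespace Groth.Agent.H1MilFib

/-- The field of constants in the residue field of a prime off the closed fibre is finite. -/
theorem finiteDimensional_algebraicClosure_residueField {V K B : Type u} [CommRing V] [IsDomain V]
    [IsDiscreteValuationRing V] [HenselianLocalRing V] [CharZero V] [IsAlgClosed (ResidueField V)]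
    [Field K] [Algebra V K] [IsFractionRing V K]
    [CommRing B] [IsLocalRing B] [IsNoetherianRing B] [Algebra V B] [IsLocalHom (algebraMap V B)]
    (p : Ideal B) [p.IsPrime] (hinj : Function.Injective (algebraMap V (B ⧸ p)))
    [Algebra K p.ResidueField] [IsScalarTower V K p.ResidueField] :
    FiniteDimensional K (algebraicClosure K p.ResidueField) := by
  obtain ⟨ϖ, hϖ⟩ := IsDiscreteValuationRing.exists_irreducible V
  haveI : IsLocalRing (B ⧸ p) :=
    IsLocalRing.of_surjective' (Ideal.Quotient.mk p) Ideal.Quotient.mk_surjective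
  haveI : IsLocalHom (Ideal.Quotient.mk p) := IsLocalHom.of_surjective _ Ideal.Quotient.mk_surjective
  haveI : IsLocalHom (algebraMap V (B ⧸ p)) := RingHom.isLocalHom_comp (Ideal.Quotient.mk p) (algebraMap V B)
  have hnf : ¬ IsField (B ⧸ p) := by
    intro hf
    letI := hf.toField
    have hne : algebraMap V (B ⧸ p) ϖ ≠ 0 := fun h => hϖ.ne_zero (hinj (h.trans (map_zero _).symm))
    exact hϖ.not_isUnit (isUnit_of_map_unit (algebraMap V (B ⧸ p)) ϖ (Ne.isUnit hne))
  obtain ⟨O, hO, hmem, hval⟩ := Groth.Agent.S4433.result (B ⧸ p) hnf p.ResidueField p.ResidueField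
    (IntermediateField.fg_def.mpr ⟨∅, Set.finite_empty, Subsingleton.elim _ _⟩)
  let i : (B ⧸ p) →+* O := (algebraMap (B ⧸ p) p.ResidueField).codRestrict O.toSubring hmem
  letI : Algebra V O := (i.comp (algebraMap V (B ⧸ p))).toAlgebra
  haveI : IsScalarTower V O p.ResidueField := IsScalarTower.of_algebraMap_eq fun v =>
    IsScalarTower.algebraMap_apply V (B ⧸ p) p.ResidueField v
  haveI : IsLocalHom (algebraMap V O) := ⟨fun v hv => by
    by_contra hn
    have hm : algebraMap V (B ⧸ p) v ∈ maximalIdeal (B ⧸ p) := by
      rw [IsLocalRing.mem_maximalIdeal, mem_nonunits_iff]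
      exact fun h => hn (isUnit_of_map_unit (algebraMap V (B ⧸ p)) v h)
    have h2 : algebraMap V O v ∈ maximalIdeal O := (O.valuation_lt_one_iff _).mpr (hval _ hm)
    exact (IsLocalRing.mem_maximalIdeal _).mp h2 hv⟩
  have hne : algebraMap V O ϖ ≠ 0 := by
    intro h
    have h2 : algebraMap V p.ResidueField ϖ = 0 := by
      rw [IsScalarTower.algebraMap_apply V O p.ResidueField, h, map_zero]
    rw [IsScalarTower.algebraMap_apply V K p.ResidueField] at h2
    exact hϖ.ne_zero (IsFractionRing.injective V K
      (((algebraMap K p.ResidueField).injective (h2.trans (map_zero _).symm)).trans (map_zero _).symm))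
  obtain ⟨N, hN⟩ : ∃ N : ℕ, algebraMap V O ϖ ∉ maximalIdeal O ^ N := by
    by_contra! hall
    have := Ideal.iInf_pow_eq_bot_of_isLocalRing (maximalIdeal O) (maximalIdeal.isMaximal O).ne_top
    exact hne ((Submodule.mem_bot O).mp (this ▸ Submodule.mem_iInf _ |>.mpr hall))
  exact finiteDimensional_algebraicClosure_of_bounded N fun F hF =>
    finrank_le_of_dvr (O := O) ϖ hϖ.maximalIdeal_eq N hN F

/-- The fraction field of a discrete valuation ring is of finite type. -/
theorem finiteType_fractionRing (V : Type u) [CommRing V] [IsDomain V] [IsDiscreteValuationRing V] :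
    Algebra.FiniteType V (FractionRing V) := by
  classical
  obtain ⟨ϖ, hϖ⟩ := IsDiscreteValuationRing.exists_irreducible V
  refine ⟨⟨{(algebraMap V (FractionRing V) ϖ)⁻¹}, eq_top_iff.mpr fun x _ => ?_⟩⟩
  obtain ⟨a, b, hb, rfl⟩ := IsFractionRing.div_surjective (A := V) x
  obtain ⟨n, u, rfl⟩ := IsDiscreteValuationRing.eq_unit_mul_pow_irreducible (nonZeroDivisors.ne_zero hb) hϖ
  have hu : (algebraMap V (FractionRing V) u)⁻¹ = algebraMap V (FractionRing V) ↑u⁻¹ := by
    refine inv_eq_of_mul_eq_one_right ?_
    rw [← map_mul, Units.mul_inv, map_one]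
  rw [map_mul, map_pow, div_eq_mul_inv, mul_inv, hu, ← inv_pow]
  refine mul_mem (Subalgebra.algebraMap_mem _ _) (mul_mem (Subalgebra.algebraMap_mem _ _) ?_)
  exact pow_mem (Algebra.subset_adjoin (by simp)) _

set_option maxHeartbeats 1000000 in
set_option synthInstance.maxHeartbeats 100000 in
/-- If the field of constants in every residue field is finite, the base change to an algebraic
closure is Noetherian. -/
theorem isNoetherianRing_tensor {V K L R : Type u} [CommRing V] [IsDomain V] [Field K] [CharZero K]
    [Algebra V K] [IsFractionRing V K] [Algebra.FiniteType V K]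
    [Field L] [IsAlgClosed L] [Algebra V L] [Algebra K L] [IsScalarTower V K L] [Algebra.IsAlgebraic K L]
    [CommRing R] [Algebra V R] [IsNoetherianRing R]
    (h : ∀ (p : Ideal R) [p.IsPrime], Function.Injective (algebraMap V (R ⧸ p)) →
      ∀ [Algebra K p.ResidueField] [IsScalarTower V K p.ResidueField],
        FiniteDimensional K (algebraicClosure K p.ResidueField)) :
    IsNoetherianRing (L ⊗[V] R) := by
  classical
  refine IsNoetherianRing.of_prime fun P hP => ?_
  let φ : (L ⊗[V] R) →+* P.ResidueField := algebraMap _ _
  let p : Ideal R := P.comap (Algebra.TensorProduct.includeRight : R →ₐ[V] L ⊗[V] R).toRingHom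
  let ι : L →ₐ[K] P.ResidueField := IsScalarTower.toAlgHom K L P.ResidueField
  have hι : ∀ l, ι l = φ (l ⊗ₜ 1) := fun l => rfl
  have hinj : Function.Injective (algebraMap V (R ⧸ p)) := by
    refine (injective_iff_map_eq_zero _).mpr fun v hv => ?_
    have h1 : algebraMap V R v ∈ p := Ideal.Quotient.eq_zero_iff_mem.mp hv
    have h2 : φ (algebraMap V L v ⊗ₜ (1 : R)) = 0 := by
      refine Ideal.algebraMap_residueField_eq_zero.mpr ?_
      have h3 : (1 : L) ⊗ₜ[V] algebraMap V R v ∈ P := h1
      rwa [← Algebra.TensorProduct.tmul_one_eq_one_tmul] at h3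
    rw [← hι] at h2
    have h4 := ι.toRingHom.injective (h2.trans (map_zero ι.toRingHom).symm)
    rw [IsScalarTower.algebraMap_apply V K L] at h4
    exact IsFractionRing.injective V K
      (((algebraMap K L).injective (h4.trans (map_zero _).symm)).trans (map_zero _).symm)
  have hinj' : Function.Injective (algebraMap V p.ResidueField) := by
    rw [IsScalarTower.algebraMap_eq V (R ⧸ p) p.ResidueField]
    exact (IsFractionRing.injective (R ⧸ p) p.ResidueField).comp hinj
  haveI : FaithfulSMul V p.ResidueField := (faithfulSMul_iff_algebraMap_injective _ _).mpr hinj'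
  letI : Algebra K p.ResidueField := (IsFractionRing.lift (K := K) hinj').toAlgebra
  haveI : IsScalarTower V K p.ResidueField :=
    IsScalarTower.of_algebraMap_eq fun v => (IsFractionRing.lift_algebraMap hinj' v).symm
  haveI hfin := h p hinj
  let ψ₀ : p.ResidueField →+* P.ResidueField := Ideal.ResidueField.map p P _ rfl
  have hψ₀ : ∀ r : R, ψ₀ (algebraMap R p.ResidueField r) = φ ((1 : L) ⊗ₜ r) := fun r => by
    simp [ψ₀, φ]
  let ψ : p.ResidueField →ₐ[K] P.ResidueField :=
    { ψ₀ with
      commutes' := fun c => by
        have key : ψ₀.comp (algebraMap K p.ResidueField) = algebraMap K P.ResidueField := by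
          refine IsLocalization.ringHom_ext (nonZeroDivisors V) (RingHom.ext fun v => ?_)
          simp only [RingHom.comp_apply]
          rw [← IsScalarTower.algebraMap_apply V K p.ResidueField,
            IsScalarTower.algebraMap_apply V R p.ResidueField, hψ₀,
            IsScalarTower.algebraMap_apply K L P.ResidueField,
            ← IsScalarTower.algebraMap_apply V K L]
          show _ = φ (algebraMap V L v ⊗ₜ (1 : R))
          rw [Algebra.TensorProduct.tmul_one_eq_one_tmul]
        exact DFunLike.congr_fun key c }
  let M : IntermediateField K P.ResidueField := algebraicClosure K P.ResidueField ⊓ ψ.fieldRange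
  haveI hMfin : FiniteDimensional K M := by
    have hle : M ≤ (algebraicClosure K p.ResidueField).map ψ := by
      rintro x ⟨hx, ⟨y, rfl⟩⟩
      refine ⟨y, ?_, rfl⟩
      exact mem_algebraicClosure_iff.mpr
        (isAlgebraic_algHom_iff ψ ψ.toRingHom.injective |>.mp (mem_algebraicClosure_iff.mp hx))
    haveI : FiniteDimensional K ((algebraicClosure K p.ResidueField).map ψ) :=
      LinearEquiv.finiteDimensional (IntermediateField.equivMap _ ψ).toLinearEquiv
    exact FiniteDimensional.of_injective (IntermediateField.inclusion hle).toLinearMap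
      (IntermediateField.inclusion_injective hle)
  let ML : IntermediateField K L := M.comap ι
  haveI hMLfin : FiniteDimensional K ML :=
    FiniteDimensional.of_injective ((ι.comp ML.val).codRestrict M.toSubalgebra fun c => c.2).toLinearMap
      (fun a b hab => Subtype.ext (ι.toRingHom.injective (congrArg Subtype.val hab)))
  haveI : IsScalarTower V K ML :=
    IsScalarTower.of_algebraMap_eq fun v => Subtype.ext (IsScalarTower.algebraMap_apply V K L v)
  haveI : Algebra.FiniteType V ML := Algebra.FiniteType.trans (S := K) inferInstance inferInstance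
  haveI : IsNoetherianRing (R ⊗[V] ML) := Algebra.FiniteType.isNoetherianRing R _
  haveI : IsNoetherianRing (ML ⊗[V] R) :=
    isNoetherianRing_of_ringEquiv _ (Algebra.TensorProduct.comm V R ML).toRingEquiv
  let θ : (ML ⊗[V] R) →ₐ[V] L ⊗[V] R :=
    Algebra.TensorProduct.map (ML.val.restrictScalars V) (AlgHom.id V R)
  let b := Module.Basis.ofVectorSpace ML L
  -- every element is a combination of the basis with coefficients in the image of `θ`
  have hdec : ∀ x : L ⊗[V] R, ∃ y : Module.Basis.ofVectorSpaceIndex ML L →₀ (ML ⊗[V] R),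
      x = y.sum fun j z => (b j ⊗ₜ[V] (1 : R)) * θ z := by
    intro x
    induction x with
    | zero => exact ⟨0, by simp⟩
    | add a c ha hc =>
      obtain ⟨ya, rfl⟩ := ha
      obtain ⟨yc, rfl⟩ := hc
      exact ⟨ya + yc, by rw [Finsupp.sum_add_index' (by simp) fun j z z' => by rw [map_add, mul_add]]⟩
    | tmul l r =>
      refine ⟨(b.repr l).mapRange (fun c => c ⊗ₜ[V] r) (zero_tmul ML r), ?_⟩
      rw [Finsupp.sum_mapRange_index (by simp)]
      conv_lhs => rw [← b.linearCombination_repr l, Finsupp.linearCombination_apply, Finsupp.sum,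
        TensorProduct.sum_tmul]
      refine Finset.sum_congr rfl fun j _ => ?_
      simp only []
      rw [show θ ((b.repr l j) ⊗ₜ[V] r) = ((b.repr l j : ML) : L) ⊗ₜ[V] r from rfl,
        Algebra.TensorProduct.tmul_mul_tmul, one_mul, IntermediateField.smul_def, smul_eq_mul, mul_comm]
  have hθE : ∀ z, φ (θ z) ∈ ψ.fieldRange := by
    intro z
    induction z with
    | zero => simp
    | add a c ha hc => rw [map_add, map_add]; exact add_mem ha hc
    | tmul c r =>
      have : φ (θ (c ⊗ₜ r)) = ι (c : L) * ψ (algebraMap R p.ResidueField r) := by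
        rw [hι, show ψ (algebraMap R p.ResidueField r) = φ ((1 : L) ⊗ₜ r) from hψ₀ r, ← map_mul,
          Algebra.TensorProduct.tmul_mul_tmul, mul_one, one_mul]
        rfl
      rw [this]
      exact mul_mem c.2.2 ⟨_, rfl⟩
  haveI : CharZero M := charZero_of_injective_algebraMap (algebraMap K M).injective
  haveI : Algebra.IsAlgebraic K M := Algebra.IsAlgebraic.of_finite K M
  let E' : IntermediateField M P.ResidueField :=
    IntermediateField.extendScalars (inf_le_right : M ≤ ψ.fieldRange)
  have hE : ∀ x : E', IsIntegral M x → x ∈ (algebraMap M E').range := fun x hx => by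
    have hxK : IsIntegral K (x : P.ResidueField) := isIntegral_trans (R := K) (A := M) _ (hx.map E'.val)
    exact ⟨⟨x, mem_algebraicClosure_iff'.mpr hxK, x.2⟩, rfl⟩
  have hMι : ∀ m : M, ∃ c : ML, ι (c : L) = m := by
    intro m
    obtain ⟨l, hl⟩ : ∃ l : L, ι l = m := by
      have hint : IsIntegral L ((m : P.ResidueField)) :=
        (mem_algebraicClosure_iff'.mp m.2.1).tower_top
      exact minpoly.mem_range_of_degree_eq_one L _
        (IsAlgClosed.degree_eq_one_of_irreducible L (minpoly.irreducible hint))
    exact ⟨⟨l, by show ι l ∈ M; rw [hl]; exact m.2⟩, hl⟩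
  have hvind : LinearIndependent M fun j => ι (b j) := by
    rw [linearIndependent_iff']
    intro s g hg j hj
    choose c hc using fun j => hMι (g j)
    have h0 : ∑ j ∈ s, c j • b j = 0 := by
      refine ι.toRingHom.injective ?_
      show ι _ = ι 0
      rw [map_sum, map_zero, ← hg]
      exact Finset.sum_congr rfl fun j _ => by
        rw [IntermediateField.smul_def, smul_eq_mul, map_mul, hc, IntermediateField.smul_def, smul_eq_mul]
    have := linearIndependent_iff'.mp b.linearIndependent s c h0 j hj
    refine Subtype.ext ?_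
    rw [← hc, this]
    simp
  have hEind : LinearIndependent E' fun j => ι (b j) :=
    linearIndependent_of_algClosed E' hE hvind fun j =>
      (((Algebra.IsIntegral.isIntegral (R := K) (b j)).map ι).tower_top)
  have hG : P = (P.comap θ.toRingHom).map θ.toRingHom := by
    refine le_antisymm (fun x hx => ?_) Ideal.map_comap_le
    obtain ⟨y, rfl⟩ := hdec x
    have h0 : ∑ j ∈ y.support, (⟨φ (θ (y j)), hθE _⟩ : E') • ι (b j) = 0 := by
      have := Ideal.algebraMap_residueField_eq_zero.mpr hx
      rw [Finsupp.sum, map_sum] at this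
      refine Eq.trans (Finset.sum_congr rfl fun j _ => ?_) this
      rw [IntermediateField.smul_def, smul_eq_mul, map_mul, mul_comm, hι]
    refine Ideal.sum_mem _ fun j hj => Ideal.mul_mem_left _ _ ?_
    refine Ideal.mem_map_of_mem θ.toRingHom ?_
    have := congrArg Subtype.val (linearIndependent_iff'.mp hEind _ _ h0 j hj)
    exact (Ideal.algebraMap_residueField_eq_zero (I := P)).mp this
  rw [hG]
  exact Ideal.FG.map (IsNoetherian.noetherian _) _

/-- For a henselian discrete valuation ring of characteristic zero with perfect separably closed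
residue field, the geometric generic fibre of any Noetherian local algebra is Noetherian. -/
theorem isNoetherianRing_tensor_of_isLocalHom (V : Type u) [CommRing V] [IsDomain V]
    [IsDiscreteValuationRing V] [HenselianLocalRing V] [IsSepClosed (ResidueField V)]
    [PerfectField (ResidueField V)] [CharZero V]
    (L : Type u) [Field L] [IsAlgClosed L] [Algebra V L] [FaithfulSMul V L] [Algebra.IsAlgebraic V L]
    (B : Type u) [CommRing B] [IsLocalRing B] [IsNoetherianRing B] [Algebra V B]
    [IsLocalHom (algebraMap V B)] : IsNoetherianRing (L ⊗[V] B) := by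
  letI : Algebra (FractionRing V) L := FractionRing.liftAlgebra V L
  haveI : IsScalarTower V (FractionRing V) L := FractionRing.isScalarTower_liftAlgebra V L
  haveI : CharZero (FractionRing V) :=
    charZero_of_injective_algebraMap (IsFractionRing.injective V (FractionRing V))
  haveI : Algebra.IsAlgebraic (FractionRing V) L :=
    ⟨fun x => (Algebra.IsAlgebraic.isAlgebraic (R := V) x).extendScalars (IsFractionRing.injective V _)⟩
  haveI : Algebra.FiniteType V (FractionRing V) := finiteType_fractionRing V
  exact isNoetherianRing_tensor (K := FractionRing V) fun p _ hinj _ _ =>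
    finiteDimensional_algebraicClosure_residueField p hinj

end Groth.Agent.H1MilFib
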